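import Mathlib

/-!
Three-cycles sharing an arc, and the images of three-cycles under automorphisms of alternating groups.
-/

set_option autoImplicit false

namespace CfsgLib.AutAlt

open Equiv Equiv.Perm

variable {α : Type*} [Fintype α] [DecidableEq α]

theorem facts {g : Perm α} (hg : g.IsThreeCycle) {u : α} (hu : g u ≠ u) :
    g (g u) ≠ g u ∧ g (g u) ≠ u ∧ g (g (g u)) = u ∧ ∀ x, g x ≠ x → x = u ∨ x = g u ∨ x = g (g u) := by
  have h3 : g ^ 3 = 1 := by rw [← hg.orderOf]; exact pow_orderOf_eq_one g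
  have e3 : g (g (g u)) = u := by simpa [pow_succ] using Equiv.ext_iff.1 h3 u
  have hs := hg.support_eq_iff_mem_support.2 (mem_support.2 hu)
  refine ⟨fun e => hu (g.injective e), fun e => hu ?_, e3, fun x hx => ?_⟩
  · conv_rhs => rw [← e3]
    rw [e]
  · have := mem_support.2 hx
    rw [hs] at this
    simpa using this

theorem eq_swap_mul {g : Perm α} (hg : g.IsThreeCycle) {u : α} (hu : g u ≠ u) :
    g = swap u (g u) * swap (g u) (g (g u)) :=
  hg.eq_swap_mul_swap_iff_mem_support.2 (mem_support.2 hu)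

theorem eq_of_eq_on_arc {g h : Perm α} (hg : g.IsThreeCycle) (hh : h.IsThreeCycle) {u : α} (hu : g u ≠ u)
    (h1 : h u = g u) (h2 : h (g u) = g (g u)) : h = g := by
  have hhu : h u ≠ u := by rw [h1]; exact hu
  rw [eq_swap_mul hh hhu, h1, h2, ← eq_swap_mul hg hu]

/-- If `y` moves `v`, `x u = v` and the product is an involution then `x` and `y` share an arc. -/
theorem arc_of_two {x y : Perm α} (hx : x.IsThreeCycle) (hy : y.IsThreeCycle) (h : (x * y) * (x * y) = 1)
    {u v w : α} (huv : x u = v) (hvw : x v = w) (hu : x u ≠ u) (hyu : y u ≠ u) (hyv : y v ≠ v) (hyw : y w = w) :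
    y u = v := by
  by_contra hne
  subst huv
  subst hvw
  obtain ⟨hxuv, hxwu, hx3, hxs⟩ := facts hx hu
  obtain ⟨-, -, hy3, hys⟩ := facts hy hyu
  obtain ⟨d, hd⟩ : ∃ d, y u = d := ⟨_, rfl⟩
  rw [hd] at hys hne hy3
  -- the order is u → d → v
  have hdv : y d = x u := by
    rcases hys (x u) hyv with e | e | e
    · exact absurd e hu
    · exact absurd e.symm hne
    · exact e.symm
  rw [hdv] at hy3
  have h1 := Equiv.ext_iff.1 h (x (x u))
  simp only [Perm.mul_apply, Perm.one_apply, hyw, hx3, hd] at h1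
  exact hne (by rw [x.injective h1])

theorem share_arc {x y : Perm α} (hx : x.IsThreeCycle) (hy : y.IsThreeCycle) (h : (x * y) * (x * y) = 1)
    (h1 : x * y ≠ 1) : ∃ u, x u = y u ∧ x u ≠ u := by
  have h3 : x ^ 3 = 1 := by rw [← hx.orderOf]; exact pow_orderOf_eq_one x
  have hsupp : x.support.card = 3 := hx.card_support
  obtain ⟨u, hu⟩ : ∃ u, x u ≠ u := by
    obtain ⟨u, hu⟩ := Finset.card_pos.1 (by omega : 0 < x.support.card)
    exact ⟨u, mem_support.1 hu⟩
  obtain ⟨huv, hwu, hx3, hxs⟩ := facts hx hu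
  -- `y` fixing two points of the support of `x`
  have single : ∀ a, x a ≠ a → y (x a) = x a → y (x (x a)) = x (x a) → False := by
    intro a ha hb hc
    obtain ⟨hab, hca, ha3, has⟩ := facts hx ha
    by_cases hya : y a = a
    · have h2 := Equiv.ext_iff.1 h a
      simp only [Perm.mul_apply, Perm.one_apply, hya, hb] at h2
      exact hca h2
    · obtain ⟨-, -, hy3, hys⟩ := facts hy hya
      have hd : x (y a) = y a := by
        by_contra hne
        rcases has _ hne with e | e | e
        · exact hya e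
        · exact ha (y.injective (by rw [hb, e]))
        · exact hca (y.injective (by rw [hc, e]))
      have he : x (y (y a)) = y (y a) := by
        by_contra hne
        rcases has _ hne with e | e | e
        · exact (facts hy hya).2.1 e
        · exact ha (hy3.symm.trans ((congrArg y e).trans hb)).symm
        · exact hca (hy3.symm.trans ((congrArg y e).trans hc)).symm
      have h2 := Equiv.ext_iff.1 h a
      simp only [Perm.mul_apply, Perm.one_apply, hd, he] at h2
      exact hya (by conv_rhs => rw [← hy3, h2])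
  by_cases hu' : y u = u <;> by_cases hv' : y (x u) = x u <;> by_cases hw' : y (x (x u)) = x (x u)
  · exact (single u hu hv' hw').elim
  · exact (single (x (x u)) (by rw [hx3]; exact hwu.symm) (by rw [hx3]; exact hu') (by rw [hx3]; exact hv')).elim
  · refine (single (x u) huv hw' ?_).elim
    rw [hx3]; exact hu'
  · exact ⟨x u, (arc_of_two hx hy h rfl rfl huv hv' hw' (by rw [hx3]; exact hu')).symm, huv⟩
  · exact (single u hu hv' hw').elim
  · refine ⟨x (x u), ?_, by rw [hx3]; exact hwu.symm⟩
    rw [arc_of_two hx hy h rfl rfl (by rw [hx3]; exact hwu.symm) hw' (by rw [hx3]; exact hu') (by rw [hx3]; exact hv')]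
  · exact ⟨u, (arc_of_two hx hy h rfl rfl hu hu' hv' hw').symm, hu⟩
  · -- same support
    obtain ⟨hy1, hy2, hy3, hys⟩ := facts hy hu'
    by_cases e : y u = x u
    · exact ⟨u, e.symm, hu⟩
    · exfalso
      rcases hys (x u) hv' with e1 | e1 | e1
      · exact hu e1
      · exact e e1.symm
      · apply h1
        have e2 : y u = x (x u) := by
          rcases hys (x (x u)) hw' with e2 | e2 | e2
          · exact absurd e2 hwu
          · exact e2.symm
          · exact absurd (e2.trans e1.symm) huv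
        have hy' : y = x⁻¹ := by
          refine eq_of_eq_on_arc (u := u) hx.inv hy ?_ ?_ ?_
          · rw [Ne, Perm.inv_eq_iff_eq]; exact fun e => hu e.symm
          · rw [e2, eq_comm, Perm.inv_eq_iff_eq, hx3]
          · have e4 : x⁻¹ u = x (x u) := by rw [Perm.inv_eq_iff_eq, hx3]
            rw [e4, ← e2, ← e1, e2]
            exact (Equiv.symm_apply_apply x (x u)).symm
        rw [hy', mul_inv_cancel]

/-- Pairwise compatible three-cycles share a common arc. -/
theorem common_arc {ι : Type*} (x : ι → Perm α) (hx : ∀ i, (x i).IsThreeCycle) (hinj : Function.Injective x)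
    (h2 : ∀ i j, i ≠ j → (x i * x j) * (x i * x j) = 1) (hne : ∀ i j, i ≠ j → x i * x j ≠ 1) (i₀ i₁ : ι) (hi : i₀ ≠ i₁) :
    ∃ u v, u ≠ v ∧ ∀ i, x i u = v := by
  obtain ⟨u, huv, hu⟩ := share_arc (hx i₀) (hx i₁) (h2 _ _ hi) (hne _ _ hi)
  refine ⟨u, x i₀ u, hu.symm, fun j => ?_⟩
  by_contra hj
  have hj0 : j ≠ i₀ := fun e => hj (by rw [e])
  have hj1 : j ≠ i₁ := fun e => hj (by rw [e, huv])
  obtain ⟨hv0, hw0, h30, hs0⟩ := facts (hx i₀) hu
  obtain ⟨hv1, hw1, h31, hs1⟩ := facts (hx i₁) (huv ▸ hu : x i₁ u ≠ u)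
  obtain ⟨v, hv⟩ : ∃ v, x i₀ u = v := ⟨_, rfl⟩
  rw [← huv, hv] at hv1 hw1 h31 hs1
  rw [hv] at hv0 hw0 h30 hs0 hj
  have hwd : x i₁ v ≠ x i₀ v := by
    intro e
    refine hi (hinj (eq_of_eq_on_arc (hx i₁) (hx i₀) (u := u) (huv ▸ hu) huv ?_))
    rw [← huv, hv, e]
  obtain ⟨p, hp, hpne⟩ := share_arc (hx j) (hx i₀) (h2 _ _ hj0) (hne _ _ hj0)
  obtain ⟨r, hr, hrne⟩ := share_arc (hx j) (hx i₁) (h2 _ _ hj1) (hne _ _ hj1)
  have hr' : r = v ∨ r = x i₁ v := by
    rcases hs1 r (hr ▸ hrne) with e | e | e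
    · subst e; exact absurd (hr.trans (huv.symm.trans hv)) hj
    · exact Or.inl e
    · exact Or.inr e
  have hp' : p = v ∨ p = x i₀ v := by
    rcases hs0 p (hp ▸ hpne) with e | e | e
    · subst e; exact absurd (hp.trans hv) hj
    · exact Or.inl e
    · exact Or.inr e
  rcases hp' with e | e <;> subst p <;> rcases hr' with e | e <;> subst r
  · exact hwd (hr.symm.trans hp)
  · rw [h31] at hr
    obtain ⟨-, -, h3j, hsj⟩ := facts (hx j) hpne
    rw [hp] at h3j hsj
    have hmoved : x j u ≠ u := fun e => hw1 ((x j).injective (hr.trans e.symm))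
    rcases hsj u hmoved with e | e | e
    · exact hu (by rw [hv]; exact e.symm)
    · exact hw0 e.symm
    · rcases hsj (x i₁ v) hrne with e' | e' | e'
      · exact hv1 e'
      · exact hwd e'
      · exact hw1 (e'.trans e.symm)
  · rw [h30] at hp
    obtain ⟨-, -, h3j, hsj⟩ := facts (hx j) hrne
    rw [hr] at h3j hsj
    have hmoved : x j u ≠ u := fun e => hw0 ((x j).injective (hp.trans e.symm))
    rcases hsj u hmoved with e | e | e
    · exact hu (by rw [hv]; exact e.symm)
    · exact hw1 e.symm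
    · rcases hsj (x i₀ v) hpne with e' | e' | e'
      · exact hv0 e'
      · exact hwd e'.symm
      · exact hw0 (e'.trans e.symm)
  · rw [h30] at hp
    rw [h31] at hr
    exact hwd ((x j).injective (hr.trans hp.symm))

/-- The three-cycle `(a b c)`. -/
def cyc (a b c : α) : Perm α := swap a b * swap b c

theorem isThreeCycle_cyc {a b c : α} (hab : a ≠ b) (hac : a ≠ c) (hbc : b ≠ c) : (cyc a b c).IsThreeCycle := by
  rw [cyc, swap_comm a b]
  exact isThreeCycle_swap_mul_swap_same hab.symm hbc hac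

theorem cyc_apply {a b c : α} (hab : a ≠ b) (hac : a ≠ c) (hbc : b ≠ c) : cyc a b c a = b ∧ cyc a b c b = c := by
  constructor
  · rw [cyc, Perm.mul_apply, swap_apply_of_ne_of_ne hab hac, swap_apply_left]
  · rw [cyc, Perm.mul_apply, swap_apply_left, swap_apply_of_ne_of_ne hac.symm hbc.symm]

end CfsgLib.AutAlt
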