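import Mathlib
import Cfsg.Agent.AutAlt.Basic

/-!
An automorphism of an alternating group mapping three-cycles to three-cycles is a conjugation.
-/

set_option autoImplicit false

namespace CfsgLib.AutAlt

open Equiv Equiv.Perm

theorem closure_top {n : ℕ} (a b : Fin n) (hab : a ≠ b) :
    ∀ g ∈ alternatingGroup (Fin n), g ∈ Subgroup.closure {g : Perm (Fin n) | ∃ i, a ≠ i ∧ b ≠ i ∧ g = cyc a b i} := by
  classical
  set C := Subgroup.closure {g : Perm (Fin n) | ∃ i, a ≠ i ∧ b ≠ i ∧ g = cyc a b i}
  have hs : ∀ r ∈ C, swap a b * r * swap a b ∈ C := by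
    intro r hr
    induction hr using Subgroup.closure_induction with
    | mem g hg =>
      obtain ⟨i, hai, hbi, rfl⟩ := hg
      have h2 : cyc a b i ∈ C := Subgroup.subset_closure ⟨i, hai, hbi, rfl⟩
      have e : swap a b * cyc a b i * swap a b = (cyc a b i)⁻¹ := by
        rw [cyc, ← mul_assoc, swap_mul_self, one_mul, mul_inv_rev, swap_inv, swap_inv]
      rw [e]; exact C.inv_mem h2
    | one => rw [mul_one, swap_mul_self]; exact one_mem _
    | mul r r' _ _ h h' =>
      have := mul_mem h h'
      convert this using 1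
      simp only [mul_assoc]
      rw [← mul_assoc (swap a b) (swap a b), swap_mul_self, one_mul]
    | inv r _ h =>
      have := inv_mem h
      rw [mul_inv_rev, mul_inv_rev, swap_inv, ← mul_assoc] at this
      exact this
  have hle : C ≤ alternatingGroup (Fin n) := (Subgroup.closure_le _).2 (by
    rintro _ ⟨i, hai, hbi, rfl⟩
    exact (isThreeCycle_cyc hab hai hbi).mem_alternatingGroup)
  let M : Subgroup (Perm (Fin n)) :=
    { carrier := {σ | σ ∈ C ∨ swap a b * σ ∈ C}
      one_mem' := Or.inl (one_mem _)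
      mul_mem' := fun {σ τ} hσ hτ => by
        rcases hσ with hσ | hσ <;> rcases hτ with hτ | hτ
        · exact Or.inl (mul_mem hσ hτ)
        · refine Or.inr ?_
          have := mul_mem (hs σ hσ) hτ
          rwa [mul_assoc, ← mul_assoc (swap a b) (swap a b), swap_mul_self, one_mul, mul_assoc] at this
        · refine Or.inr ?_
          rw [← mul_assoc]
          exact mul_mem hσ hτ
        · refine Or.inl ?_
          have := mul_mem (hs _ hσ) hτ
          rwa [← mul_assoc (swap a b) (swap a b), swap_mul_self, one_mul, mul_assoc, ← mul_assoc (swap a b) (swap a b),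
            swap_mul_self, one_mul] at this
      inv_mem' := fun {σ} hσ => by
        rcases hσ with hσ | hσ
        · exact Or.inl (inv_mem hσ)
        · refine Or.inr ?_
          have := hs _ (inv_mem hσ)
          rwa [mul_inv_rev, swap_inv, mul_assoc, mul_assoc, swap_mul_self, mul_one] at this }
  have hab' : swap a b ∈ M := Or.inr (by rw [swap_mul_self]; exact one_mem _)
  have hbi : ∀ i, swap b i ∈ M := by
    intro i
    rcases eq_or_ne a i with rfl | hai
    · rw [swap_comm]; exact hab'
    rcases eq_or_ne b i with rfl | hbi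
    · rw [swap_self]; exact M.one_mem
    exact Or.inr (Subgroup.subset_closure ⟨i, hai, hbi, rfl⟩)
  have htop : ∀ σ, σ ∈ M := by
    intro σ
    induction σ using swap_induction_on with
    | one => exact M.one_mem
    | swap_mul f i j hij hf =>
      refine M.mul_mem ?_ hf
      rcases eq_or_ne b i with rfl | hbi'
      · exact hbi j
      rcases eq_or_ne b j with rfl | hbj'
      · rw [swap_comm]; exact hbi i
      rw [← swap_mul_swap_mul_swap (x := j) (y := b) (z := i) hbj'.symm hij.symm, swap_comm j b]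
      exact M.mul_mem (M.mul_mem (hbi i) (hbi j)) (hbi i)
  intro g hg
  rcases htop g with h | h
  · exact h
  · have h1 := hle h
    rw [mem_alternatingGroup, map_mul, sign_swap hab, mem_alternatingGroup.1 hg] at h1
    exact absurd h1 (by decide)

theorem exists_conj {n : ℕ} (hn : 4 ≤ n) (β : MulAut ↥(alternatingGroup (Fin n)))
    (h3 : ∀ x : ↥(alternatingGroup (Fin n)), (x : Perm (Fin n)).IsThreeCycle →
      ((β x : ↥(alternatingGroup (Fin n))) : Perm (Fin n)).IsThreeCycle) :
    ∃ σ : Perm (Fin n), MulAut.conjNormal σ = β := by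
  classical
  let a : Fin n := ⟨0, by omega⟩
  let b : Fin n := ⟨1, by omega⟩
  have hab : a ≠ b := fun e => by simpa [a, b] using congrArg Fin.val e
  let I := {i : Fin n // a ≠ i ∧ b ≠ i}
  let gen : I → ↥(alternatingGroup (Fin n)) := fun i =>
    ⟨cyc a b i, (isThreeCycle_cyc hab i.2.1 i.2.2).mem_alternatingGroup⟩
  let x : I → Equiv.Perm (Fin n) := fun i => ((β (gen i) : ↥(alternatingGroup (Fin n))) : Equiv.Perm (Fin n))
  have hx : ∀ i, (x i).IsThreeCycle := fun i =>
    h3 (gen i) (isThreeCycle_cyc hab i.2.1 i.2.2)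
  have hgen : ∀ i j : I, (gen i : Equiv.Perm (Fin n)) = gen j → i = j := fun i j e => by
    have h1 := Equiv.ext_iff.1 e b
    change cyc a b i b = cyc a b j b at h1
    rw [(cyc_apply hab i.2.1 i.2.2).2, (cyc_apply hab j.2.1 j.2.2).2] at h1
    exact Subtype.ext h1
  have hinj : Function.Injective x := fun i j e =>
    hgen i j (congrArg Subtype.val (β.injective (Subtype.ext e)))
  have h2 : ∀ i j, i ≠ j → (x i * x j) * (x i * x j) = 1 := by
    intro i j hij
    have hne : (i : Fin n) ≠ j := fun e => hij (Subtype.ext e)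
    have h4 : (gen i * gen j) * (gen i * gen j) = 1 := by
      apply Subtype.ext
      show cyc a b i * cyc a b j * (cyc a b i * cyc a b j) = 1
      refine Equiv.ext fun z => ?_
      obtain ⟨hai, hbi⟩ := i.2
      obtain ⟨haj, hbj⟩ := j.2
      obtain ⟨hA, hB⟩ := cyc_apply hab hai hbi
      obtain ⟨hA', hB'⟩ := cyc_apply hab haj hbj
      have hCi : cyc a b (i : Fin n) i = a := by
        rw [cyc, Equiv.Perm.mul_apply, Equiv.swap_apply_right, Equiv.swap_apply_right]
      have hCj : cyc a b (j : Fin n) j = a := by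
        rw [cyc, Equiv.Perm.mul_apply, Equiv.swap_apply_right, Equiv.swap_apply_right]
      have hO : ∀ (k : Fin n) w, w ≠ a → w ≠ b → w ≠ k → cyc a b k w = w := fun k w w1 w2 w3 => by
        rw [cyc, Equiv.Perm.mul_apply, Equiv.swap_apply_of_ne_of_ne w2 w3, Equiv.swap_apply_of_ne_of_ne w1 w2]
      simp only [Equiv.Perm.mul_apply, Equiv.Perm.one_apply]
      have hji : cyc a b (j : Fin n) i = i := hO _ _ hai.symm hbi.symm hne
      have hij' : cyc a b (i : Fin n) j = j := hO _ _ haj.symm hbj.symm hne.symm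
      rcases eq_or_ne z a with rfl | z1
      · rw [hA', hB, hji, hCi]
      rcases eq_or_ne z b with rfl | z2
      · rw [hB', hij', hCj, hA]
      rcases eq_or_ne z (i : Fin n) with rfl | z3
      · rw [hji, hCi, hA', hB]
      rcases eq_or_ne z (j : Fin n) with rfl | z4
      · rw [hCj, hA, hB', hij']
      rw [hO _ _ z1 z2 z4, hO _ _ z1 z2 z3, hO _ _ z1 z2 z4, hO _ _ z1 z2 z3]
    have := congrArg (fun g => ((β g : ↥(alternatingGroup (Fin n))) : Equiv.Perm (Fin n))) h4
    simpa [x] using this
  have hne : ∀ i j, i ≠ j → x i * x j ≠ 1 := by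
    intro i j hij h
    have h4 : gen i * gen j = 1 := β.injective (by rw [map_mul, map_one]; exact Subtype.ext h)
    have h5 := Equiv.ext_iff.1 (congrArg Subtype.val h4) a
    change cyc a b i (cyc a b j a) = a at h5
    rw [(cyc_apply hab j.2.1 j.2.2).1, (cyc_apply hab i.2.1 i.2.2).2] at h5
    exact i.2.1 h5.symm
  let i₀ : I := ⟨⟨2, by omega⟩, fun e => by simpa [a] using congrArg Fin.val e, fun e => by simpa [b] using congrArg Fin.val e⟩
  let i₁ : I := ⟨⟨3, by omega⟩, fun e => by simpa [a] using congrArg Fin.val e, fun e => by simpa [b] using congrArg Fin.val e⟩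
  obtain ⟨u, v, huv, harc⟩ := common_arc x hx hinj h2 hne i₀ i₁ (fun e => by simpa [i₀, i₁] using congrArg (fun i : I => (i : Fin n).val) e)
  have hu : ∀ i, x i u ≠ u := fun i => by rw [harc]; exact huv.symm
  have hw : ∀ i, x i v ≠ v ∧ x i v ≠ u := fun i => by
    obtain ⟨e1, e2, -, -⟩ := facts (hx i) (hu i)
    rw [harc] at e1 e2
    exact ⟨e1, e2⟩
  let f : Fin n → Fin n := fun z => if h : a ≠ z ∧ b ≠ z then x ⟨z, h⟩ v else if z = a then u else v
  have hfa : f a = u := by simp [f]
  have hfb : f b = v := by simp [f, hab.symm]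
  have hfi : ∀ i : I, f i = x i v := fun i => dif_pos i.2
  have hf : Function.Injective f := by
    intro z z' e
    by_cases h : a ≠ z ∧ b ≠ z <;> by_cases h' : a ≠ z' ∧ b ≠ z'
    · have e' : x ⟨z, h⟩ v = x ⟨z', h'⟩ v := by rw [← hfi ⟨z, h⟩, ← hfi ⟨z', h'⟩]; exact e
      exact congrArg Subtype.val (hinj (eq_of_eq_on_arc (hx ⟨z', h'⟩) (hx ⟨z, h⟩) (hu _) (by rw [harc, harc]) (by rw [harc]; exact e')))
    · rw [show f z = x ⟨z, h⟩ v from hfi ⟨z, h⟩] at e
      rcases Classical.em (a = z') with rfl | h1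
      · rw [hfa] at e; exact absurd e (hw _).2
      · obtain rfl : b = z' := by_contra fun h2 => h' ⟨h1, h2⟩
        rw [hfb] at e; exact absurd e (hw _).1
    · rw [show f z' = x ⟨z', h'⟩ v from hfi ⟨z', h'⟩] at e
      rcases Classical.em (a = z) with rfl | h1
      · rw [hfa] at e; exact absurd e.symm (hw _).2
      · obtain rfl : b = z := by_contra fun h2 => h ⟨h1, h2⟩
        rw [hfb] at e; exact absurd e.symm (hw _).1
    · rcases Classical.em (a = z) with rfl | h1 <;> rcases Classical.em (a = z') with e' | h2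
      · exact e'
      · obtain rfl : b = z' := by_contra fun h3 => h' ⟨h2, h3⟩
        rw [hfa, hfb] at e; exact absurd e huv
      · subst e'
        obtain rfl : b = z := by_contra fun h3 => h ⟨h1, h3⟩
        rw [hfa, hfb] at e; exact absurd e.symm huv
      · obtain rfl : b = z := by_contra fun h3 => h ⟨h1, h3⟩
        exact (by_contra fun h3 => h' ⟨h2, h3⟩ : b = z')
  let σ : Equiv.Perm (Fin n) := Equiv.ofBijective f ⟨hf, Finite.injective_iff_surjective.1 hf⟩
  have hσ : ∀ i : I, σ * cyc a b i * σ⁻¹ = x i := by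
    intro i
    have hσ' : ∀ z, σ z = f z := fun z => rfl
    obtain ⟨hA, hB⟩ := cyc_apply hab i.2.1 i.2.2
    have h3 : (σ * cyc a b i * σ⁻¹).IsThreeCycle := by
      unfold Equiv.Perm.IsThreeCycle
      rw [Equiv.Perm.cycleType_conj]
      exact isThreeCycle_cyc hab i.2.1 i.2.2
    refine eq_of_eq_on_arc (hx i) h3 (hu i) ?_ ?_
    · rw [harc, ← hfa, ← hσ', Equiv.Perm.mul_apply, Equiv.Perm.mul_apply, Equiv.Perm.inv_def, Equiv.symm_apply_apply, hA, hσ', hfb]
    · rw [harc, ← hfb, ← hσ', Equiv.Perm.mul_apply, Equiv.Perm.mul_apply, Equiv.Perm.inv_def, Equiv.symm_apply_apply, hB, hσ', hσ', hfb, hfi]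
  refine ⟨σ, MulEquiv.ext fun g => ?_⟩
  have hg := closure_top a b hab (g : Equiv.Perm (Fin n)) g.2
  let E : Subgroup ↥(alternatingGroup (Fin n)) :=
    (MulAut.conjNormal σ : MulAut ↥(alternatingGroup (Fin n))).toMonoidHom.eqLocus β.toMonoidHom
  have hE : (g : Equiv.Perm (Fin n)) ∈ E.map (alternatingGroup (Fin n)).subtype := by
    refine (Subgroup.closure_le _).2 ?_ hg
    rintro _ ⟨i, hai, hbi, rfl⟩
    refine ⟨gen ⟨i, hai, hbi⟩, ?_, rfl⟩
    apply Subtype.ext
    exact hσ ⟨i, hai, hbi⟩
  obtain ⟨g', hg', e⟩ := hE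
  obtain rfl : g' = g := Subtype.ext e
  exact hg'

end CfsgLib.AutAlt
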